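import Cfsg.Agent.Lib.Dim3Max.Solv.Diag

/-!
No element with three distinct sixth powers normalises a group of symplectic type.

Two elements commuting up to a cube root of one span all matrices. The conjugation by such an element acts
on the classes modulo scalars through a group whose elements have order dividing four or six.
-/

set_option autoImplicit false

namespace CfsgLib.Dim3Max

open scoped Matrix MatrixGroups

universe u

variable {F : Type u} [Field F]

/-- The elements commute up to the scalar `c`. -/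
def Rel (x n : GL (Fin 3) F) (c : F) : Prop :=
  (x : Matrix (Fin 3) (Fin 3) F) * (n : Matrix (Fin 3) (Fin 3) F) =
    c • ((n : Matrix (Fin 3) (Fin 3) F) * (x : Matrix (Fin 3) (Fin 3) F))

variable {x y n m : GL (Fin 3) F} {c d : F}

theorem Rel.ne_zero (h : Rel x n c) : c ≠ 0 := by
  intro e
  unfold Rel at h
  rw [e, zero_smul, ← Units.val_mul] at h
  exact not_isUnit_zero (h ▸ Units.isUnit _)

theorem rel_one (x : GL (Fin 3) F) : Rel x 1 1 := by simp [Rel]

theorem rel_self (x : GL (Fin 3) F) : Rel x x 1 := by simp [Rel]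

theorem Rel.mul (h : Rel x n c) (h' : Rel x m d) : Rel x (n * m) (c * d) := by
  unfold Rel at *
  rw [Units.val_mul, ← Matrix.mul_assoc, h, Matrix.smul_mul, Matrix.mul_assoc, h', Matrix.mul_smul, smul_smul,
    Matrix.mul_assoc]

theorem Rel.pow (h : Rel x n c) (k : ℕ) : Rel x (n ^ k) (c ^ k) := by
  induction k with
  | zero => simpa using rel_one x
  | succ k ih => rw [pow_succ, pow_succ]; exact ih.mul h

theorem Rel.symm (h : Rel x n c) : Rel n x c⁻¹ := by
  show (n : Matrix (Fin 3) (Fin 3) F) * x = c⁻¹ • ((x : Matrix (Fin 3) (Fin 3) F) * n)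
  rw [h, smul_smul, inv_mul_cancel₀ h.ne_zero, one_smul]

theorem Rel.inv (h : Rel x n c) : Rel x n⁻¹ c⁻¹ := by
  unfold Rel at *
  have := congrArg (fun X => ((n⁻¹ : GL (Fin 3) F) : Matrix (Fin 3) (Fin 3) F) * X *
    ((n⁻¹ : GL (Fin 3) F) : Matrix (Fin 3) (Fin 3) F)) h
  simp only [Matrix.mul_smul, Matrix.smul_mul, ← Matrix.mul_assoc, Units.inv_mul, Matrix.one_mul] at this
  rw [Matrix.mul_assoc, Units.mul_inv, Matrix.mul_one] at this
  rw [this, smul_smul, inv_mul_cancel₀ (Rel.ne_zero (show Rel x n c from h)), one_smul]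

theorem Rel.unique (h : Rel x n c) (h' : Rel x n d) : c = d := by
  unfold Rel at *
  rw [h, ← sub_eq_zero, ← sub_smul] at h'
  rcases smul_eq_zero.1 h' with e | e
  · exact sub_eq_zero.1 e
  · rw [← Units.val_mul] at e
    exact absurd e (Units.ne_zero _)

theorem rel_one_iff : Rel x n 1 ↔ x * n = n * x := by
  simp only [Rel, one_smul, ← Units.val_mul, Units.val_inj]

theorem Rel.cube (h : Rel x n c) : c ^ 3 = 1 := by
  unfold Rel at h
  have := congrArg Matrix.det h
  rw [Matrix.det_smul, Matrix.det_mul, Matrix.det_mul, Fintype.card_fin, mul_comm (n : Matrix (Fin 3) (Fin 3) F).det] at this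
  exact (mul_eq_right₀ (mul_ne_zero (Matrix.GeneralLinearGroup.det x).ne_zero (Matrix.GeneralLinearGroup.det n).ne_zero)).1 this.symm

theorem Rel.conj (h : Rel x n c) (a : GL (Fin 3) F) : Rel (a * x * a⁻¹) (a * n * a⁻¹) c := by
  unfold Rel at *
  have e1 : a * x * a⁻¹ * (a * n * a⁻¹) = a * (x * n) * a⁻¹ := by group
  have e2 : a * n * a⁻¹ * (a * x * a⁻¹) = a * (n * x) * a⁻¹ := by group
  rw [← Units.val_mul, ← Units.val_mul, e1, e2]
  simp only [Units.val_mul, h, Matrix.mul_smul, Matrix.smul_mul]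

theorem rel_scal_left {s : F} (h : (x : Matrix (Fin 3) (Fin 3) F) = s • 1) : Rel x n 1 := by
  simp [Rel, h]

theorem trace_eq_zero (h : Rel x n c) (hc : c ≠ 1) : (n : Matrix (Fin 3) (Fin 3) F).trace = 0 := by
  have e : (n : Matrix (Fin 3) (Fin 3) F).trace = c⁻¹ * (n : Matrix (Fin 3) (Fin 3) F).trace := by
    conv_lhs => rw [← Matrix.mul_one (n : Matrix (Fin 3) (Fin 3) F), ← Units.mul_inv x, ← Matrix.mul_assoc]
    rw [Matrix.trace_mul_comm, ← Matrix.mul_assoc]
    have h' : ((x⁻¹ : GL (Fin 3) F) : Matrix (Fin 3) (Fin 3) F) * n =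
        c⁻¹ • ((n : Matrix (Fin 3) (Fin 3) F) * ((x⁻¹ : GL (Fin 3) F) : Matrix (Fin 3) (Fin 3) F)) := by
      have := h.symm.inv.symm
      rw [inv_inv, Rel] at this
      exact this
    rw [h', Matrix.smul_mul, Matrix.mul_assoc, Units.inv_mul, Matrix.mul_one, Matrix.trace_smul, smul_eq_mul]
  by_contra hn
  exact hc (inv_eq_one.1 ((mul_eq_right₀ hn).1 e.symm))

theorem three_ne_zero' {ω : F} (h3 : ω ^ 3 = 1) (h1 : ω ≠ 1) : (3 : F) ≠ 0 := by
  intro e
  refine h1 (sub_eq_zero.1 (pow_eq_zero_iff (n := 3) (by norm_num) |>.1 ?_))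
  linear_combination h3 + (ω - ω ^ 2) * e

/-- A pair commuting up to a scalar other than one has only scalars as centralizer. -/
theorem scal_of_comm_pair {ω : F} (hxy : Rel x y ω) (hω : ω ≠ 1) (hx : Rel x n 1) (hy : Rel y n 1) :
    ∃ s : F, (n : Matrix (Fin 3) (Fin 3) F) = s • 1 := by
  classical
  have h3 := hxy.cube
  have hω0 := hxy.ne_zero
  have hdist : ∀ i j : Fin 3, ω ^ (i : ℕ) = ω ^ (j : ℕ) → i = j := by
    haveI : Fact (Nat.Prime 3) := ⟨by norm_num⟩
    intro i j e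
    exact Fin.ext (pow_injOn_Iio_orderOf (by rw [orderOf_eq_prime h3 hω]; exact i.2)
      (by rw [orderOf_eq_prime h3 hω]; exact j.2) e)
  let X : Fin 3 × Fin 3 → GL (Fin 3) F := fun q => x ^ (q.1 : ℕ) * y ^ (q.2 : ℕ)
  have hrx : ∀ q, Rel x (X q) (ω ^ (q.2 : ℕ)) := fun q => by
    simpa using ((rel_self x).pow (q.1 : ℕ)).mul (hxy.pow (q.2 : ℕ))
  have hry : ∀ q, Rel y (X q) ((ω ^ (q.1 : ℕ))⁻¹) := fun q => by
    simpa [inv_pow] using (hxy.symm.pow (q.1 : ℕ)).mul ((rel_self y).pow (q.2 : ℕ))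
  have htr : ∀ q q', q ≠ q' → ((X q * (X q')⁻¹ : GL (Fin 3) F) : Matrix (Fin 3) (Fin 3) F).trace = 0 := by
    intro q q' hne
    by_cases h2 : q.2 = q'.2
    · refine trace_eq_zero ((hry q).mul (hry q').inv) fun e => hne (Prod.ext (hdist _ _ ?_) h2)
      rw [inv_inv, inv_mul_eq_one₀ (pow_ne_zero _ hω0)] at e
      exact e
    · refine trace_eq_zero ((hrx q).mul (hrx q').inv) fun e => h2 (hdist _ _ ?_)
      exact (mul_inv_eq_one₀ (pow_ne_zero _ hω0)).1 e
  have hind : LinearIndependent F fun q => (X q : Matrix (Fin 3) (Fin 3) F) := by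
    rw [Fintype.linearIndependent_iff]
    intro g hg q'
    have h := congrArg (fun Z => (Z * (((X q')⁻¹ : GL (Fin 3) F) : Matrix (Fin 3) (Fin 3) F)).trace) hg
    simp only [Finset.sum_mul, Matrix.trace_sum, Matrix.smul_mul, Matrix.trace_smul, ← Units.val_mul,
      Matrix.zero_mul, Matrix.trace_zero] at h
    rw [Finset.sum_eq_single q' (fun q _ hq => by rw [htr q q' hq, smul_zero]) (by simp), mul_inv_cancel,
      Units.val_one, Matrix.trace_one, Fintype.card_fin, smul_eq_mul] at h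
    exact (mul_eq_zero.1 h).resolve_right (by simpa using three_ne_zero' h3 hω)
  have hspan := hind.span_eq_top_of_card_eq_finrank (by simp [Module.finrank_matrix])
  have hall : ∀ Z : Matrix (Fin 3) (Fin 3) F, Commute Z (n : Matrix (Fin 3) (Fin 3) F) := by
    intro Z
    have hZ : Z ∈ Submodule.span F (Set.range fun q => (X q : Matrix (Fin 3) (Fin 3) F)) :=
      hspan ▸ Submodule.mem_top
    induction hZ using Submodule.span_induction with
    | mem Z hZ =>
      obtain ⟨q, rfl⟩ := hZ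
      have e : Commute (X q) n :=
        ((show Commute x n from rel_one_iff.1 hx).pow_left _).mul_left ((show Commute y n from rel_one_iff.1 hy).pow_left _)
      exact congrArg Units.val e
    | zero => exact Commute.zero_left _
    | add _ _ _ _ h1 h2 => exact h1.add_left h2
    | smul s _ _ h1 => exact h1.smul_left s
  obtain ⟨s, hs⟩ := Matrix.mem_range_scalar_of_commute_single (M := (n : Matrix (Fin 3) (Fin 3) F))
    fun i j _ => hall _
  exact ⟨s, by rw [← hs]; simp [Matrix.smul_one_eq_diagonal]⟩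

theorem det_one_four_six : ∀ A B : ZMod 3 × ZMod 3, A.1 * B.2 - A.2 * B.1 = 1 →
    ((fun v : ZMod 3 × ZMod 3 => v.1 • A + v.2 • B)^[4] (1, 0) = (1, 0) ∧
      (fun v : ZMod 3 × ZMod 3 => v.1 • A + v.2 • B)^[4] (0, 1) = (0, 1)) ∨
    ((fun v : ZMod 3 × ZMod 3 => v.1 • A + v.2 • B)^[6] (1, 0) = (1, 0) ∧
      (fun v : ZMod 3 × ZMod 3 => v.1 • A + v.2 • B)^[6] (0, 1) = (0, 1)) := by
  decide +kernel

variable {M N : Subgroup (GL (Fin 3) F)} {g a : GL (Fin 3) F} {t : Fin 3 → F} {ω : F}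

theorem scal_pow_diag (ha : (a : Matrix (Fin 3) (Fin 3) F) * g = (g : Matrix (Fin 3) (Fin 3) F) * Matrix.diagonal t)
    {k : ℕ} {s : F} (h : ((a ^ k : GL (Fin 3) F) : Matrix (Fin 3) (Fin 3) F) = s • 1) (i : Fin 3) : t i ^ k = s := by
  have e := congrArg (fr g) h
  rw [Units.val_pow_eq_pow_val, fr_pow, (fr_of_diag ha).1, Matrix.diagonal_pow] at e
  have := congrFun (congrFun e i) i
  simpa [fr] using this

/-- The symplectic type is impossible. -/
theorem false_of_pair (hN : ∀ m ∈ M, ∀ u ∈ N, m * u * m⁻¹ ∈ N) (hrel : ∀ u ∈ N, ∀ v ∈ N, ∃ c, Rel u v c)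
    (hx : x ∈ N) (hy : y ∈ N) (hxy : Rel x y ω) (hω : ω ≠ 1) (haM : a ∈ M)
    (ha : (a : Matrix (Fin 3) (Fin 3) F) * g = (g : Matrix (Fin 3) (Fin 3) F) * Matrix.diagonal t)
    (ht : ∀ i j, i ≠ j → t i ^ 6 ≠ t j ^ 6) : False := by
  classical
  have h3 := hxy.cube
  have hω0 := hxy.ne_zero
  haveI : Fact (Nat.Prime 3) := ⟨by norm_num⟩
  have ho : orderOf ω = 3 := orderOf_eq_prime h3 hω
  let w : ZMod 3 → F := fun i => ω ^ i.val
  have wadd : ∀ i j, w (i + j) = w i * w j := fun i j => by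
    show ω ^ (i + j).val = _
    rw [ZMod.val_add, ← pow_add]
    conv_rhs => rw [← pow_mod_orderOf, ho]
  have w0 : w 0 = 1 := by simp [w]
  have w1 : w 1 = ω := pow_one ω
  have winj : ∀ i, w i = 1 → i = 0 := by
    intro i h
    have := orderOf_dvd_of_pow_eq_one h
    rw [ho] at this
    exact (ZMod.val_eq_zero i).1 (Nat.eq_zero_of_dvd_of_lt this i.val_lt)
  have wneg : ∀ i, w (-i) = (w i)⁻¹ := fun i => eq_inv_of_mul_eq_one_left (by rw [← wadd, neg_add_cancel, w0])
  have winj' : ∀ i j, w i = w j → i = j := fun i j h => by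
    refine sub_eq_zero.1 (winj _ ?_)
    rw [sub_eq_add_neg, wadd, wneg, h, mul_inv_cancel₀ (pow_ne_zero _ hω0)]
  have root : ∀ c : F, c ^ 3 = 1 → ∃ i, w i = c := by
    intro c hc
    have e : (c - 1) * (c - ω) * (c - ω ^ 2) = 0 := by
      have hs : 1 + ω + ω ^ 2 = 0 := (mul_eq_zero.1 (show (ω - 1) * (1 + ω + ω ^ 2) = 0 by
        linear_combination h3)).resolve_left (sub_ne_zero.2 hω)
      linear_combination hc - h3 + (ω * c - c ^ 2) * hs
    rcases mul_eq_zero.1 e with e | e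
    · rcases mul_eq_zero.1 e with e | e
      · exact ⟨0, by rw [w0, sub_eq_zero.1 e]⟩
      · exact ⟨1, by rw [w1, sub_eq_zero.1 e]⟩
    · exact ⟨2, by rw [sub_eq_zero.1 e]; rfl⟩
  have wpow : ∀ i k, (w i) ^ (k : ZMod 3).val = w (i * k) := fun i k => by
    show (ω ^ i.val) ^ k.val = ω ^ (i * k).val
    rw [← pow_mul, ZMod.val_mul]
    conv_lhs => rw [← pow_mod_orderOf, ho]
  let Ev : GL (Fin 3) F → ZMod 3 × ZMod 3 → Prop := fun u v => Rel x u (w v.1) ∧ Rel y u (w v.2)
  have hEv : ∀ u ∈ N, ∃ v, Ev u v := fun u hu => by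
    obtain ⟨c, hc⟩ := hrel x hx u hu
    obtain ⟨d, hd⟩ := hrel y hy u hu
    obtain ⟨i, rfl⟩ := root c hc.cube
    obtain ⟨j, rfl⟩ := root d hd.cube
    exact ⟨(i, j), hc, hd⟩
  have Ev_unique : ∀ u v v', Ev u v → Ev u v' → v = v' := fun u v v' h h' =>
    Prod.ext (winj' _ _ (h.1.unique h'.1)) (winj' _ _ (h.2.unique h'.2))
  have Ev_mul : ∀ u u' v v', Ev u v → Ev u' v' → Ev (u * u') (v + v') := fun u u' v v' h h' => by
    refine ⟨?_, ?_⟩
    · rw [Prod.fst_add, wadd]; exact h.1.mul h'.1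
    · rw [Prod.snd_add, wadd]; exact h.2.mul h'.2
  have Ev_inv : ∀ u v, Ev u v → Ev u⁻¹ (-v) := fun u v h => by
    refine ⟨?_, ?_⟩
    · rw [Prod.fst_neg, wneg]; exact h.1.inv
    · rw [Prod.snd_neg, wneg]; exact h.2.inv
  have Ev_zero : ∀ u, Ev u 0 → ∃ s : F, (u : Matrix (Fin 3) (Fin 3) F) = s • 1 := fun u h =>
    scal_of_comm_pair hxy hω (w0 ▸ h.1) (w0 ▸ h.2)
  have Ev_scal : ∀ (u : GL (Fin 3) F) (s : F), (u : Matrix (Fin 3) (Fin 3) F) = s • 1 → Ev u 0 := fun u s h =>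
    ⟨by simpa [w0] using (rel_scal_left (n := x) h).symm, by simpa [w0] using (rel_scal_left (n := y) h).symm⟩
  -- representatives
  let r : ZMod 3 × ZMod 3 → GL (Fin 3) F := fun v => y ^ v.1.val * x ^ (-v.2).val
  have hrN : ∀ v, r v ∈ N := fun v => mul_mem (pow_mem hy _) (pow_mem hx _)
  have hEr : ∀ v, Ev (r v) v := fun v => by
    refine ⟨?_, ?_⟩
    · have h := (hxy.pow v.1.val).mul ((rel_self x).pow (-v.2).val)
      simpa [w] using h
    · have h := ((rel_self y).pow v.1.val).mul (hxy.symm.pow (-v.2).val)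
      have e : ω⁻¹ ^ (-v.2).val = w v.2 := by
        rw [inv_pow, ← wneg, neg_neg]
      rw [one_pow, one_mul, e] at h
      exact h
  have pair : ∀ u v u' v', Ev u v → Ev u' v' → ∀ c, Rel u u' c → c = w (v.1 * v'.2 - v.2 * v'.1) := by
    intro u v u' v' h h' c hc
    obtain ⟨s, hs⟩ := Ev_zero _ (by simpa using Ev_mul _ _ _ _ h' (Ev_inv _ _ (hEr v')))
    have h1 := ((rel_scal_left (n := u) hs).symm).mul ((h.2.symm.pow v'.1.val).mul (h.1.symm.pow (-v'.2).val))
    rw [inv_mul_cancel_right] at h1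
    rw [hc.unique h1, inv_one, one_mul, ← wneg, ← wneg]
    rw [wpow, wpow, ← wadd]
    congr 1
    ring
  -- the action
  choose ev hev using hEv
  let L : ZMod 3 × ZMod 3 → ZMod 3 × ZMod 3 := fun v => ev (a * r v * a⁻¹) (hN a haM _ (hrN v))
  have hL : ∀ u v, Ev u v → Ev (a * u * a⁻¹) (L v) := by
    intro u v h
    obtain ⟨s, hs⟩ := Ev_zero _ (by simpa using Ev_mul _ _ _ _ h (Ev_inv _ _ (hEr v)))
    have h1 : ((a * (u * (r v)⁻¹) * a⁻¹ : GL (Fin 3) F) : Matrix (Fin 3) (Fin 3) F) = s • 1 := by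
      rw [Units.val_mul, Units.val_mul _ (u * _), hs, Matrix.mul_smul, Matrix.mul_one, Matrix.smul_mul, Units.mul_inv]
    have := Ev_mul _ _ _ _ (Ev_scal _ _ h1) (hev _ (hN a haM _ (hrN v)))
    rw [zero_add, show a * (u * (r v)⁻¹) * a⁻¹ * (a * r v * a⁻¹) = a * u * a⁻¹ by group] at this
    exact this
  have hLadd : ∀ v v', L (v + v') = L v + L v' := by
    intro v v'
    refine Ev_unique (a * (r v * r v') * a⁻¹) _ _ (hL _ _ (Ev_mul _ _ _ _ (hEr v) (hEr v'))) ?_
    have := Ev_mul _ _ _ _ (hL _ _ (hEr v)) (hL _ _ (hEr v'))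
    rwa [show a * r v * a⁻¹ * (a * r v' * a⁻¹) = a * (r v * r v') * a⁻¹ by group] at this
  have hLlin : L = fun v => v.1 • L (1, 0) + v.2 • L (0, 1) := by
    funext v
    let f := (AddMonoidHom.mk' L hLadd).toZModLinearMap 3
    have e : v = v.1 • ((1, 0) : ZMod 3 × ZMod 3) + v.2 • ((0, 1) : ZMod 3 × ZMod 3) := by ext <;> simp
    show f v = _
    conv_lhs => rw [e, map_add, map_smul, map_smul]
    rfl
  have hdet : (L (1, 0)).1 * (L (0, 1)).2 - (L (1, 0)).2 * (L (0, 1)).1 = 1 := by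
    obtain ⟨c, hc⟩ := hrel _ (hrN (1, 0)) _ (hrN (0, 1))
    have e1 := pair _ _ _ _ (hEr _) (hEr _) c hc
    have e2 := pair _ _ _ _ (hL _ _ (hEr _)) (hL _ _ (hEr _)) c (hc.conj a)
    simpa using (winj' _ _ (e2.symm.trans e1))
  have hiter : ∀ (k : ℕ) u v, Ev u v → Ev (a ^ k * u * (a ^ k)⁻¹) (L^[k] v) := by
    intro k
    induction k with
    | zero => intro u v h; simpa using h
    | succ k ih =>
      intro u v h
      have := hL _ _ (ih u v h)
      rw [Function.iterate_succ_apply']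
      rwa [show a * (a ^ k * u * (a ^ k)⁻¹) * a⁻¹ = a ^ (k + 1) * u * (a ^ (k + 1))⁻¹ by
        rw [pow_succ']; group] at this
  have hk : ∀ k : ℕ, L^[k] (1, 0) = (1, 0) → L^[k] (0, 1) = (0, 1) →
      (∃ c, Rel (a ^ k) x c) ∧ ∃ c, Rel (a ^ k) y c := by
    intro k h10 h01
    have key : ∀ u v, Ev u v → L^[k] v = v → ∃ c, Rel (a ^ k) u c := by
      intro u v h hv
      have h1 := hiter k u v h
      rw [hv] at h1
      obtain ⟨s, hs⟩ := Ev_zero _ (by simpa using Ev_mul _ _ _ _ h1 (Ev_inv _ _ h))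
      refine ⟨s, ?_⟩
      have e : a ^ k * u * (a ^ k)⁻¹ * u⁻¹ * (u * a ^ k) = a ^ k * u := by group
      rw [Rel, ← Units.val_mul, ← e, Units.val_mul, hs, Matrix.smul_mul, Matrix.one_mul, Units.val_mul]
    have h01' : L^[k] (-(0, 1)) = -(0, 1) := by
      have := iterate_map_neg (AddMonoidHom.mk' L hLadd) k (0, 1)
      exact this.trans (congrArg Neg.neg h01)
    refine ⟨key x (-(0, 1)) ⟨?_, ?_⟩ h01', key y (1, 0) ⟨?_, ?_⟩ h10⟩
    · simpa [w0] using rel_self x
    · simpa [wneg, w1] using hxy.symm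
    · simpa [w1] using hxy
    · simpa [w0] using rel_self y
  -- fixed classes
  have hscal : ∀ b : GL (Fin 3) F, (∃ c, Rel b x c) → (∃ c, Rel b y c) →
      ∃ s : F, ((b ^ 3 : GL (Fin 3) F) : Matrix (Fin 3) (Fin 3) F) = s • 1 := by
    rintro b ⟨c, hc⟩ ⟨d, hd⟩
    refine scal_of_comm_pair hxy hω ?_ ?_
    · have := hc.symm.pow 3
      rwa [inv_pow, hc.cube, inv_one] at this
    · have := hd.symm.pow 3
      rwa [inv_pow, hd.cube, inv_one] at this
  have h2 : (2 : Fin 3) ≠ 1 ∧ (1 : Fin 3) ≠ 0 ∧ (2 : Fin 3) ≠ 0 := by decide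
  rcases det_one_four_six _ _ hdet with ⟨p10, p01⟩ | ⟨p10, p01⟩ <;> rw [← hLlin] at p10 p01 <;>
    obtain ⟨hbx, hby⟩ := hk _ p10 p01
  · obtain ⟨s, hs⟩ := hscal _ hbx hby
    rw [← pow_mul] at hs
    have e : ∀ i, (t i ^ 6) ^ 2 = s := fun i => by rw [← pow_mul]; exact scal_pow_diag ha hs i
    have opp : ∀ i j, i ≠ j → t i ^ 6 = -(t j ^ 6) := by
      intro i j hij
      have : (t i ^ 6 - t j ^ 6) * (t i ^ 6 + t j ^ 6) = 0 := by linear_combination e i - e j
      exact eq_neg_of_add_eq_zero_left ((mul_eq_zero.1 this).resolve_left (sub_ne_zero.2 (ht i j hij)))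
    exact ht 2 1 h2.1 ((opp 2 0 h2.2.2).trans (opp 1 0 h2.2.1).symm)
  · obtain ⟨c, hc⟩ := hbx
    obtain ⟨d, hd⟩ := hby
    obtain ⟨i, hi⟩ := root _ hc.symm.cube
    obtain ⟨j, hj⟩ := root _ hd.symm.cube
    have hEa : Ev (a ^ 6) (i, j) := ⟨hi.symm ▸ hc.symm, hj.symm ▸ hd.symm⟩
    have hE0 := Ev_mul _ _ _ _ hEa (Ev_inv _ _ (hEr (i, j)))
    rw [add_neg_cancel] at hE0
    obtain ⟨s, hs⟩ := Ev_zero _ hE0
    set u := r (i, j) with hu
    set z := a ^ 6 * u⁻¹ with hz
    have hzc : ∀ b : GL (Fin 3) F, b * z = z * b := fun b => (rel_one_iff.1 (rel_scal_left (n := b) hs)).symm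
    have hau : a * u = u * a := by
      have e : z * (a * u) = z * (u * a) := by
        rw [← mul_assoc, ← hzc a, mul_assoc, hz, inv_mul_cancel_right, ← pow_succ', ← mul_assoc,
          inv_mul_cancel_right, ← pow_succ]
      exact mul_left_cancel e
    have huns : ∀ l : F, (u : Matrix (Fin 3) (Fin 3) F) ≠ l • 1 := by
      intro l hl
      have e : a ^ 6 = z * u := by rw [hz, inv_mul_cancel_right]
      have h6 : ((a ^ 6 : GL (Fin 3) F) : Matrix (Fin 3) (Fin 3) F) = (s * l) • 1 := by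
        rw [e, Units.val_mul, hs, hl, Matrix.smul_mul, Matrix.one_mul, smul_smul]
      exact ht 2 1 h2.1 ((scal_pow_diag ha h6 2).trans (scal_pow_diag ha h6 1).symm)
    -- a partner
    obtain ⟨m, hm, ω', hum, hω'⟩ : ∃ m ∈ N, ∃ ω', Rel u m ω' ∧ ω' ≠ 1 := by
      by_cases hi0 : w i = 1
      · refine ⟨y, hy, _, (hEr (i, j)).2.symm, fun e => ?_⟩
        obtain ⟨l, hl⟩ := Ev_zero u (by
          have hj0 : w j = 1 := inv_eq_one.1 e
          have e0 : (i, j) = (0 : ZMod 3 × ZMod 3) := Prod.ext (winj i hi0) (winj j hj0)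
          rw [← e0]
          exact hEr (i, j))
        exact huns l hl
      · exact ⟨x, hx, _, (hEr (i, j)).1.symm, fun e => hi0 (inv_eq_one.1 e)⟩
    have hua : a * u * a⁻¹ = u := by rw [hau, mul_inv_cancel_right]
    have h1 : Rel u (a * m * a⁻¹) ω' := hua ▸ hum.conj a
    set d' := a * m * a⁻¹ * m⁻¹ with hd'
    have hd1 : Rel u d' 1 := by
      have := h1.mul hum.inv
      rwa [mul_inv_cancel₀ hum.ne_zero] at this
    obtain ⟨c', hc'⟩ := hrel m hm d' (mul_mem (hN a haM m hm) (inv_mem hm))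
    obtain ⟨i', hi'⟩ := root _ hc'.cube
    obtain ⟨j', hj'⟩ := root _ hum.cube
    have hj'0 : j' ≠ 0 := fun e => hω' (by rw [← hj', e, w0])
    set k := (i' / j').val with hk'
    set n' := (u ^ k)⁻¹ with hn'
    have hmk : Rel m (d' * n'⁻¹) 1 := by
      have := hc'.mul (hum.symm.pow k)
      rw [← hi', inv_pow, ← hj', hk', wpow, mul_div_cancel₀ _ hj'0, mul_inv_cancel₀ (pow_ne_zero _ hω0)] at this
      rwa [hn', inv_inv]
    have huk : Rel u (d' * n'⁻¹) 1 := by
      have := hd1.mul ((rel_self u).pow k)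
      rw [one_pow, one_mul] at this
      rwa [hn', inv_inv]
    obtain ⟨l, hl⟩ := scal_of_comm_pair hum hω' huk hmk
    set ζ := d' * n'⁻¹ with hζ
    have hζc : ∀ b : GL (Fin 3) F, Commute ζ b := fun b => rel_one_iff.1 (rel_scal_left (n := b) hl)
    have hama : a * m * a⁻¹ = ζ * (n' * m) := by rw [hζ, hd']; group
    have han : Commute a n' := ((show Commute a u from hau).pow_right k).inv_right
    set q := ζ * n' with hq
    have haq : Commute a q := (hζc a).symm.mul_right han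
    have hama' : a * m * a⁻¹ = q * m := hama.trans (mul_assoc _ _ _).symm
    have hstep : ∀ b, Commute a b → a * (b * m) * a⁻¹ = b * (q * m) := fun b hb => by
      rw [← hama', ← mul_assoc a b m, hb.eq]
      simp only [mul_assoc]
    have e3 : a ^ 3 * m * (a ^ 3)⁻¹ = ζ ^ 3 * n' ^ 3 * m := by
      calc a ^ 3 * m * (a ^ 3)⁻¹ = a * (a * (a * m * a⁻¹) * a⁻¹) * a⁻¹ := by
            simp only [pow_succ, pow_zero, one_mul, mul_inv_rev, mul_assoc]
        _ = a * (q * q * m) * a⁻¹ := by rw [hama', hstep q haq, mul_assoc q q m]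
        _ = q ^ 3 * m := by
          rw [hstep _ (haq.mul_right haq)]
          simp only [pow_succ, pow_zero, one_mul, mul_assoc]
        _ = ζ ^ 3 * n' ^ 3 * m := by rw [hq, (hζc n').mul_pow]
    -- the cube
    have hm3 : ∀ b, Commute (m ^ 3) b := fun b => by
      obtain ⟨l', hl'⟩ := scal_of_comm_pair hum hω' (n := m ^ 3)
        (by have := hum.pow 3; rwa [hum.cube] at this) (by simpa using (rel_self m).pow 3)
      exact rel_one_iff.1 (rel_scal_left (n := b) hl')
    have hnm : (n' * m) ^ 3 = n' ^ 3 * m ^ 3 := by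
      set θ := m * n' * m⁻¹ * n'⁻¹ with hθ
      have hr' : ∃ c, Rel m n' c := ⟨_, (hum.symm.pow k).inv⟩
      obtain ⟨c'', hc''⟩ := hr'
      have hθm : (θ : Matrix (Fin 3) (Fin 3) F) = c'' • 1 := by
        have e : θ = m * n' * (n' * m)⁻¹ := by rw [hθ]; group
        rw [e, Units.val_mul, Units.val_mul, show (m : Matrix (Fin 3) (Fin 3) F) * n' = _ from hc'', ← Units.val_mul,
          Matrix.smul_mul, ← Units.val_mul, mul_inv_cancel, Units.val_one]
      have hθc : ∀ b, Commute θ b := fun b => rel_one_iff.1 (rel_scal_left (n := b) hθm)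
      have hθ3 : θ ^ 3 = 1 := Units.ext (by
        rw [Units.val_pow_eq_pow_val, hθm, smul_pow, one_pow, hc''.cube, one_smul, Units.val_one])
      have e1 : ∀ b, m * (n' * b) = θ * (n' * (m * b)) := fun b => by rw [hθ]; group
      have e2 : ∀ b, n' * (θ * b) = θ * (n' * b) := fun b => (hθc n').symm.left_comm b
      have e3' : ∀ b, m * (θ * b) = θ * (m * b) := fun b => (hθc m).symm.left_comm b
      calc (n' * m) ^ 3 = θ ^ 3 * (n' ^ 3 * m ^ 3) := by
            simp only [pow_succ, pow_zero, one_mul, mul_assoc, e1, e2, e3']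
        _ = n' ^ 3 * m ^ 3 := by rw [hθ3, one_mul]
    have hone : ζ ^ 3 * n' ^ 3 = 1 := by
      have e : (a * m * a⁻¹) ^ 3 = m ^ 3 := by
        rw [conj_pow, (hm3 a).symm.eq, mul_inv_cancel_right]
      rw [hama, (hζc _).mul_pow, hnm, ← mul_assoc] at e
      exact mul_eq_right.1 e
    obtain ⟨l3, hl3⟩ := scal_of_comm_pair hum hω' (n := a ^ 3)
      (rel_one_iff.2 ((show Commute a u from hau).pow_left 3).symm.eq)
      (rel_one_iff.2 (by
        rw [hone, one_mul, mul_inv_eq_iff_eq_mul] at e3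
        exact e3.symm))
    exact ht 2 1 h2.1 (by
      have q : ∀ i, t i ^ 6 = l3 ^ 2 := fun i => by rw [← scal_pow_diag ha hl3 i, ← pow_mul]
      rw [q, q])

end CfsgLib.Dim3Max
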