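import Cfsg.Agent.Lib.Dim3Max.Defs

/-!
An abelian normal subgroup is diagonal in the frame of an element with three distinct sixth powers.

The span of such a subgroup has no non-zero nilpotent element, so it has no component off the diagonal.
-/

set_option autoImplicit false

namespace CfsgLib.Dim3Max

open scoped Matrix MatrixGroups

universe u

variable {F : Type u} [Field F]

/-- The matrix in the frame `g`. -/
def fr (g : GL (Fin 3) F) (Z : Matrix (Fin 3) (Fin 3) F) : Matrix (Fin 3) (Fin 3) F :=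
  ((g⁻¹ : GL (Fin 3) F) : Matrix (Fin 3) (Fin 3) F) * Z * (g : Matrix (Fin 3) (Fin 3) F)

theorem fr_mul (g : GL (Fin 3) F) (Z W : Matrix (Fin 3) (Fin 3) F) : fr g (Z * W) = fr g Z * fr g W := by
  simp only [fr, Matrix.mul_assoc, Units.mul_inv_cancel_left]

theorem fr_one (g : GL (Fin 3) F) : fr g 1 = 1 := by simp [fr]

theorem fr_pow (g : GL (Fin 3) F) (Z : Matrix (Fin 3) (Fin 3) F) (k : ℕ) : fr g (Z ^ k) = fr g Z ^ k := by
  induction k with
  | zero => simp [fr_one]
  | succ k ih => rw [pow_succ, pow_succ, fr_mul, ih]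

theorem fr_inj (g : GL (Fin 3) F) {Z W : Matrix (Fin 3) (Fin 3) F} (h : fr g Z = fr g W) : Z = W := by
  have := congrArg (fun X => (g : Matrix (Fin 3) (Fin 3) F) * X *
    ((g⁻¹ : GL (Fin 3) F) : Matrix (Fin 3) (Fin 3) F)) h
  simpa [fr, Matrix.mul_assoc] using this

theorem fr_of_diag {g : GL (Fin 3) F} {a : GL (Fin 3) F} {t : Fin 3 → F}
    (ha : (a : Matrix (Fin 3) (Fin 3) F) * (g : Matrix (Fin 3) (Fin 3) F) =
      (g : Matrix (Fin 3) (Fin 3) F) * Matrix.diagonal t) :
    fr g a = Matrix.diagonal t ∧ (∀ i, t i ≠ 0) ∧ fr g (a⁻¹ : GL (Fin 3) F) = Matrix.diagonal fun i => (t i)⁻¹ := by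
  have h1 : fr g a = Matrix.diagonal t := by
    rw [fr, Matrix.mul_assoc, ha, Units.inv_mul_cancel_left]
  have h0 : ∀ i, t i ≠ 0 := by
    intro i hi
    have h2 : fr g a * fr g (a⁻¹ : GL (Fin 3) F) = 1 := by rw [← fr_mul, Units.mul_inv, fr_one]
    rw [h1] at h2
    have := congrFun (congrFun h2 i) i
    simp [Matrix.diagonal_mul, hi] at this
  refine ⟨h1, h0, ?_⟩
  calc fr g (a⁻¹ : GL (Fin 3) F)
      = (Matrix.diagonal (fun i => (t i)⁻¹) * Matrix.diagonal t) * fr g (a⁻¹ : GL (Fin 3) F) := by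
        rw [Matrix.diagonal_mul_diagonal]; simp [h0]
    _ = Matrix.diagonal (fun i => (t i)⁻¹) := by
        rw [Matrix.mul_assoc, ← h1, ← fr_mul, Units.mul_inv, fr_one, Matrix.mul_one]

theorem cube_zero {t : Fin 3 → F} (h0 : ∀ i, t i ≠ 0) (ht : ∀ i j, i ≠ j → t i ^ 6 ≠ t j ^ 6)
    {r : F} (hr : r ≠ 1) {W : Matrix (Fin 3) (Fin 3) F} (hW : ∀ i j, W i j ≠ 0 → t i = r * t j) : W ^ 3 = 0 := by
  have key : ∀ i k l j, W i k ≠ 0 → W k l ≠ 0 → W l j ≠ 0 → False := by
    intro i k l j a b c
    have e1 := hW _ _ a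
    have e2 := hW _ _ b
    have e3 := hW _ _ c
    have n1 : i ≠ k := fun e => hr ((mul_eq_right₀ (h0 k)).1 (e ▸ e1).symm)
    have n2 : k ≠ l := fun e => hr ((mul_eq_right₀ (h0 l)).1 (e ▸ e2).symm)
    have n3 : l ≠ j := fun e => hr ((mul_eq_right₀ (h0 j)).1 (e ▸ e3).symm)
    have hcomb : ∀ i k l j : Fin 3, i ≠ k → k ≠ l → l ≠ j → i = l ∨ k = j ∨ i = j := by decide
    rcases hcomb i k l j n1 n2 n3 with e | e | e
    · subst e
      have : r ^ 2 = 1 := by
        have h := e1
        rw [e2, ← mul_assoc, ← pow_two] at h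
        exact (mul_eq_right₀ (h0 i)).1 h.symm
      exact ht i k n1 (by rw [e1, mul_pow, show r ^ 6 = (r ^ 2) ^ 3 by ring, this, one_pow, one_mul])
    · subst e
      have : r ^ 2 = 1 := by
        have h := e2
        rw [e3, ← mul_assoc, ← pow_two] at h
        exact (mul_eq_right₀ (h0 k)).1 h.symm
      exact ht k l n2 (by rw [e2, mul_pow, show r ^ 6 = (r ^ 2) ^ 3 by ring, this, one_pow, one_mul])
    · subst e
      have : r ^ 3 = 1 := by
        have h := e1
        rw [e2, e3, ← mul_assoc, ← mul_assoc] at h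
        exact (mul_eq_right₀ (h0 i)).1 (by linear_combination -h)
      exact ht i k n1 (by rw [e1, mul_pow, show r ^ 6 = (r ^ 3) ^ 2 by ring, this, one_pow, one_mul])
  ext i j
  rw [pow_succ, pow_two, Matrix.mul_apply, Matrix.zero_apply]
  refine Finset.sum_eq_zero fun l _ => ?_
  rw [Matrix.mul_apply, Finset.sum_mul]
  refine Finset.sum_eq_zero fun k _ => ?_
  by_contra h
  simp only [mul_eq_zero, not_or] at h
  exact key i k l j h.1.1 h.1.2 h.2

variable [Finite F] {M : Subgroup (GL (Fin 3) F)}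

theorem eq_one_of_pow_char (hirr : Irr M) {p : ℕ} [Fact p.Prime] [CharP F p] (N : Subgroup (GL (Fin 3) F))
    (hN : ∀ m ∈ M, ∀ x ∈ N, m * x * m⁻¹ ∈ N) (hab : ∀ x ∈ N, ∀ y ∈ N, x * y = y * x)
    {x : GL (Fin 3) F} (hx : x ∈ N) (hxp : x ^ p = 1) : x = 1 := by
  classical
  let P : Subgroup (GL (Fin 3) F) :=
    { carrier := {y | y ∈ N ∧ y ^ p = 1}
      one_mem' := ⟨one_mem _, one_pow p⟩
      mul_mem' := fun {y w} hy hw => ⟨mul_mem hy.1 hw.1, by
        rw [(show Commute y w from hab y hy.1 w hw.1).mul_pow, hy.2, hw.2, one_mul]⟩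
      inv_mem' := fun {y} hy => ⟨inv_mem hy.1, by rw [inv_pow, hy.2, inv_one]⟩ }
  have hP : IsPGroup p P := fun y => ⟨1, Subtype.ext (by rw [pow_one]; exact y.2.2)⟩
  let _ : MulAction P (Fin 3 → F) :=
    { smul := fun y v => (y.1 : Matrix (Fin 3) (Fin 3) F) *ᵥ v
      one_smul := fun v => show ((1 : GL (Fin 3) F) : Matrix (Fin 3) (Fin 3) F) *ᵥ v = v by simp
      mul_smul := fun y w v => show ((y.1 * w.1 : GL (Fin 3) F) : Matrix (Fin 3) (Fin 3) F) *ᵥ v = _ by
        rw [Units.val_mul, ← Matrix.mulVec_mulVec]; rfl }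
  have hdvd : p ∣ Nat.card (Fin 3 → F) := by
    haveI := Fintype.ofFinite F
    obtain ⟨k, -, hk⟩ := FiniteField.card F p
    rw [Nat.card_fun, Nat.card_eq_fintype_card (α := F), hk, ← pow_mul]
    exact dvd_pow_self p (Nat.mul_ne_zero k.ne_zero (by simp))
  obtain ⟨v, hv, hv0⟩ := hP.exists_fixed_point_of_prime_dvd_card_of_fixed_point (Fin 3 → F) hdvd (a := 0)
    (fun y => Matrix.mulVec_zero _)
  let U : Submodule F (Fin 3 → F) :=
    { carrier := {w | ∀ y ∈ P, (y : Matrix (Fin 3) (Fin 3) F) *ᵥ w = w}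
      add_mem' := fun {w w'} hw hw' y hy => by rw [Matrix.mulVec_add, hw y hy, hw' y hy]
      zero_mem' := fun y _ => Matrix.mulVec_zero _
      smul_mem' := fun c w hw y hy => by rw [Matrix.mulVec_smul, hw y hy] }
  have hU : U = ⊤ := by
    refine (hirr U ?_).resolve_left fun e => hv0 ?_
    · rintro _ ⟨m, hm, rfl⟩ _ ⟨w, hw, rfl⟩ y hy
      have hy' : m⁻¹ * y * m ∈ P := ⟨by simpa using hN m⁻¹ (inv_mem hm) y hy.1, by
        have : (m⁻¹ * y * m⁻¹⁻¹) ^ p = 1 := by rw [conj_pow, hy.2, mul_one, mul_inv_cancel]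
        simpa using this⟩
      have := hw _ hy'
      rw [Matrix.toLin'_apply]
      conv_rhs => rw [← this]
      simp only [Units.val_mul, Matrix.mulVec_mulVec, ← Matrix.mul_assoc, Units.mul_inv, Matrix.one_mul]
    · have : v ∈ U := fun y hy => hv ⟨y, hy⟩
      rw [e, Submodule.mem_bot] at this
      exact this.symm
  refine Units.ext (Matrix.toLin'.injective (LinearMap.ext fun w => ?_))
  have hw : w ∈ U := hU ▸ Submodule.mem_top
  rw [Matrix.toLin'_apply, hw x ⟨hx, hxp⟩]
  simp

/-- An abelian subgroup normalised by `M` is diagonal. -/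
theorem diag_of_normal_abelian (hirr : Irr M) {g a : GL (Fin 3) F} {t : Fin 3 → F} (haM : a ∈ M)
    (ha : (a : Matrix (Fin 3) (Fin 3) F) * (g : Matrix (Fin 3) (Fin 3) F) =
      (g : Matrix (Fin 3) (Fin 3) F) * Matrix.diagonal t)
    (ht : ∀ i j, i ≠ j → t i ^ 6 ≠ t j ^ 6) (N : Subgroup (GL (Fin 3) F))
    (hN : ∀ m ∈ M, ∀ x ∈ N, m * x * m⁻¹ ∈ N) (hab : ∀ x ∈ N, ∀ y ∈ N, x * y = y * x)
    {x : GL (Fin 3) F} (hx : x ∈ N) : ∃ s : Fin 3 → F, fr g x = Matrix.diagonal s := by
  classical
  haveI := Fintype.ofFinite F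
  obtain ⟨p, hp⟩ := CharP.exists F
  haveI : Fact p.Prime := ⟨CharP.char_is_prime F p⟩
  obtain ⟨k, hpp, hk⟩ := FiniteField.card F p
  obtain ⟨fa, h0, fa'⟩ := fr_of_diag ha
  -- a power map fixing the subgroup
  set m := Nat.card N with hm
  set e := (k : ℕ) * m.totient with he
  set Q := p ^ e with hQ
  have hcop : p.Coprime m := by
    rw [hpp.coprime_iff_not_dvd]
    intro hd
    obtain ⟨y, hy⟩ := exists_prime_orderOf_dvd_card' (G := N) p hd
    have h1 := eq_one_of_pow_char hirr (p := p) N hN hab y.2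
      (by rw [← Subgroup.coe_pow, ← hy, pow_orderOf_eq_one]; rfl)
    rw [show y = 1 from Subtype.ext h1, orderOf_one] at hy
    exact hpp.one_lt.ne hy
  have hQ1 : Q ≡ 1 [MOD m] := by
    rw [hQ, he, pow_mul]
    exact Nat.ModEq.pow_totient (hcop.pow_left _)
  have hfix : ∀ y ∈ N, (y : Matrix (Fin 3) (Fin 3) F) ^ Q = y := by
    intro y hy
    have h1 : y ^ Q = y ^ 1 := pow_eq_pow_iff_modEq.2 (hQ1.of_dvd (N.orderOf_dvd_natCard hy))
    rw [pow_one] at h1
    rw [← Units.val_pow_eq_pow_val, h1]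
  have hc : ∀ c : F, c ^ Q = c := fun c => by
    rw [hQ, he, pow_mul, ← hk, FiniteField.pow_card_pow]
  set S := Submodule.span F {W : Matrix (Fin 3) (Fin 3) F | ∃ y ∈ N, fr g y = W} with hS
  have hScomm : ∀ W ∈ S, ∀ W' ∈ S, Commute W W' := by
    intro W hW W' hW'
    induction hW using Submodule.span_induction with
    | mem W hW =>
      obtain ⟨y, hy, rfl⟩ := hW
      induction hW' using Submodule.span_induction with
      | mem W' hW' =>
        obtain ⟨y', hy', rfl⟩ := hW'
        show fr g y * fr g y' = fr g y' * fr g y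
        rw [← fr_mul, ← fr_mul, ← Units.val_mul, ← Units.val_mul, hab y hy y' hy']
      | zero => exact Commute.zero_right _
      | add _ _ _ _ h1 h2 => exact h1.add_right h2
      | smul c _ _ h1 => exact h1.smul_right c
    | zero => exact Commute.zero_left _
    | add _ _ _ _ h1 h2 => exact h1.add_left h2
    | smul c _ _ h1 => exact h1.smul_left c
  have hQ0 : Q ≠ 0 := pow_ne_zero _ hpp.ne_zero
  have hSpow : ∀ W ∈ S, W ^ Q = W := by
    intro W hW
    induction hW using Submodule.span_induction with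
    | mem W hW =>
      obtain ⟨y, hy, rfl⟩ := hW
      rw [← fr_pow, hfix y hy]
    | zero => exact zero_pow hQ0
    | add W W' h1 h2 e1 e2 => rw [hQ, add_pow_char_pow_of_commute p e (hScomm W h1 W' h2), ← hQ, e1, e2]
    | smul c W _ e1 => rw [smul_pow, hc, e1]
  -- the components
  let r : Fin 3 → Fin 3 → F := fun i j => t i / t j
  let σ : Matrix (Fin 3) (Fin 3) F →ₗ[F] Matrix (Fin 3) (Fin 3) F :=
    { toFun := fun W => Matrix.diagonal t * W * Matrix.diagonal fun i => (t i)⁻¹
      map_add' := fun W W' => by rw [Matrix.mul_add, Matrix.add_mul]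
      map_smul' := fun c W => by rw [Matrix.mul_smul, Matrix.smul_mul]; rfl }
  have hσ : ∀ W i j, σ W i j = r i j * W i j := fun W i j => by
    simp only [σ, r, LinearMap.coe_mk, AddHom.coe_mk, Matrix.mul_diagonal, Matrix.diagonal_mul, div_eq_mul_inv]
    ring
  have hσS : ∀ W ∈ S, σ W ∈ S := by
    intro W hW
    induction hW using Submodule.span_induction with
    | mem W hW =>
      obtain ⟨y, hy, rfl⟩ := hW
      refine Submodule.subset_span ⟨a * y * a⁻¹, hN a haM y hy, ?_⟩
      rw [Units.val_mul, Units.val_mul, fr_mul, fr_mul, fa, fa']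
      rfl
    | zero => rw [map_zero]; exact zero_mem _
    | add _ _ _ _ h1 h2 => rw [map_add]; exact add_mem h1 h2
    | smul c _ _ h1 => rw [map_smul]; exact S.smul_mem c h1
  have hcomp : ∀ (s : Finset F) W, W ∈ S →
      (Matrix.of fun i j => W i j * ∏ u ∈ s, (r i j - u)) ∈ S := by
    intro s
    induction s using Finset.induction_on with
    | empty =>
      intro W hW
      convert hW
      simp
      rfl
    | insert u s hu ih =>
      intro W hW
      have h1 := ih W hW
      have := S.sub_mem (hσS _ h1) (S.smul_mem u h1)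
      convert this using 1
      ext i j
      simp only [Matrix.of_apply, Finset.prod_insert hu, Matrix.sub_apply, Matrix.smul_apply, hσ, smul_eq_mul]
      ring
  refine ⟨fun i => fr g x i i, Matrix.ext fun i j => ?_⟩
  rcases eq_or_ne i j with rfl | hij
  · rw [Matrix.diagonal_apply_eq]
  rw [Matrix.diagonal_apply_ne _ hij]
  by_contra hne
  set s := (Finset.univ.image fun q : Fin 3 × Fin 3 => r q.1 q.2).erase (r i j) with hs
  set W : Matrix (Fin 3) (Fin 3) F := Matrix.of fun a b => fr g x a b * ∏ u ∈ s, (r a b - u) with hWdef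
  have hWS : W ∈ S := hcomp s _ (Submodule.subset_span ⟨x, hx, rfl⟩)
  have hWij : W i j ≠ 0 := by
    refine mul_ne_zero hne (Finset.prod_ne_zero_iff.2 fun u hu => sub_ne_zero.2 ?_)
    exact (Finset.mem_erase.1 hu).1.symm
  have hsupp : ∀ a b, W a b ≠ 0 → t a = r i j * t b := by
    intro a b hab'
    by_contra hcon
    refine hab' (mul_eq_zero_of_right _ (Finset.prod_eq_zero (i := r a b) ?_ (sub_self _)))
    refine Finset.mem_erase.2 ⟨fun e => hcon ?_, Finset.mem_image.2 ⟨(a, b), Finset.mem_univ _, rfl⟩⟩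
    rw [← e]
    exact (div_mul_cancel₀ _ (h0 b)).symm
  have hr1 : r i j ≠ 1 := fun e => ht i j hij (by rw [(div_eq_one_iff_eq (h0 j)).1 e])
  have h3 := cube_zero h0 ht hr1 hsupp
  refine hWij ?_
  have hQQ : 3 ≤ Q * Q := by
    have : 2 ≤ Q := le_trans hpp.two_le (Nat.le_self_pow (Nat.mul_ne_zero k.ne_zero
      (Nat.totient_pos.2 Nat.card_pos).ne') p)
    nlinarith
  have e : W = 0 := by
    calc W = W ^ (Q * Q) := by rw [pow_mul, hSpow W hWS, hSpow W hWS]
      _ = W ^ 3 * W ^ (Q * Q - 3) := by rw [← pow_add W, Nat.add_sub_cancel' hQQ]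
      _ = 0 := by rw [h3, Matrix.zero_mul]
  rw [e, Matrix.zero_apply]

/-- A diagonal non-scalar subgroup normalised by `M` makes `M` monomial. -/
theorem monoIn_of_diag (hirr : Irr M) {g : GL (Fin 3) F} (N : Subgroup (GL (Fin 3) F))
    (hN : ∀ m ∈ M, ∀ x ∈ N, m * x * m⁻¹ ∈ N) (hd : ∀ x ∈ N, ∃ s, fr g x = Matrix.diagonal s)
    (hns : ∃ x ∈ N, ∀ c : F, (x : Matrix (Fin 3) (Fin 3) F) ≠ c • 1) : ∀ m ∈ M, MonoIn g m := by
  classical
  choose s hs using hd
  -- the weights
  let Eq' : Fin 3 → Fin 3 → Prop := fun i k => ∀ x (hx : x ∈ N), s x hx i = s x hx k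
  have hN' : ∀ m ∈ M, ∀ x ∈ N, m⁻¹ * x * m ∈ N := fun m hm x hx => by
    have := hN m⁻¹ (inv_mem hm) x hx
    rwa [inv_inv] at this
  have hrel : ∀ m (hm : m ∈ M), ∀ i j, fr g m i j ≠ 0 → ∀ x (hx : x ∈ N),
      s x hx i = s (m⁻¹ * x * m) (hN' m hm x hx) j := by
    intro m hm i j hij x hx
    have e : fr g x * fr g m = fr g m * fr g ((m⁻¹ * x * m : GL (Fin 3) F)) := by
      rw [← fr_mul, ← fr_mul, ← Units.val_mul, ← Units.val_mul]
      congr 2
      group
    rw [hs x hx, hs _ (hN' m hm x hx)] at e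
    have := congrFun (congrFun e i) j
    rw [Matrix.diagonal_mul, Matrix.mul_diagonal, mul_comm] at this
    exact mul_left_cancel₀ hij this
  have hcol : ∀ m : GL (Fin 3) F, IsUnit (fr g m) := fun m => by
    show IsUnit ((((g⁻¹ * m * g : GL (Fin 3) F))) : Matrix (Fin 3) (Fin 3) F)
    exact Units.isUnit _
  have hdist : ∀ i k, i ≠ k → ¬ Eq' i k := by
    intro i k hik he
    obtain ⟨l, hl⟩ := (by decide : ∀ i k : Fin 3, ∃ l, l ≠ i ∧ l ≠ k) i k
    have hli : ¬ Eq' l i := by
      intro hli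
      obtain ⟨x, hx, hxc⟩ := hns
      refine hxc (s x hx i) (fr_inj g ?_)
      rw [hs x hx]
      have h3 : ∀ a : Fin 3, a = l ∨ a = i ∨ a = k := by
        have : ∀ i k l a : Fin 3, i ≠ k → l ≠ i → l ≠ k → a = l ∨ a = i ∨ a = k := by decide
        exact fun a => this i k l a hik hl.1 hl.2
      have h4 : fr g (s x hx i • (1 : Matrix (Fin 3) (Fin 3) F)) = s x hx i • (1 : Matrix (Fin 3) (Fin 3) F) := by
        simp [fr]
      rw [h4, Matrix.smul_one_eq_diagonal]
      congr 1
      funext a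
      rcases h3 a with rfl | rfl | rfl
      · exact hli x hx
      · rfl
      · exact (he x hx).symm
    -- the line of `l` is invariant
    have hfix : ∀ m ∈ M, ∀ a, a ≠ l → fr g m a l = 0 := by
      intro m hm
      have hsame : ∀ j, fr g m l j ≠ 0 → ∀ a, a ≠ l → fr g m a j = 0 := by
        intro j hj a hal
        by_contra ha
        refine hli fun x hx => ?_
        rw [hrel m hm l j hj x hx, ← hrel m hm a j ha x hx]
        have : ∀ i k l a : Fin 3, i ≠ k → l ≠ i → l ≠ k → a ≠ l → a = i ∨ a = k := by decide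
        rcases this i k l a hik hl.1 hl.2 hal with rfl | rfl
        · rfl
        · exact (he x hx).symm
      by_contra hcon
      push Not at hcon
      obtain ⟨a, hal, ha⟩ := hcon
      have hll : fr g m l l = 0 := by
        by_contra h
        exact ha (hsame l h a hal)
      -- the column of `i` or `k` meets the row `l`
      obtain ⟨j, hj⟩ : ∃ j, fr g m l j ≠ 0 := by
        by_contra h
        push Not at h
        have hu := Matrix.isUnit_iff_isUnit_det _ |>.1 (hcol m)
        rw [Matrix.det_eq_zero_of_row_eq_zero l h] at hu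
        exact not_isUnit_zero hu
      have hjl : j ≠ l := fun e => hj (e ▸ hll)
      obtain ⟨j', hj'l, hj'j⟩ : ∃ j', j' ≠ l ∧ j' ≠ j := by
        have : ∀ l j : Fin 3, j ≠ l → ∃ j', j' ≠ l ∧ j' ≠ j := by decide
        exact this l j hjl
      have hjj' : Eq' j j' := by
        have : ∀ i k l a b : Fin 3, i ≠ k → l ≠ i → l ≠ k → a ≠ l → b ≠ l → a ≠ b →
            a = i ∧ b = k ∨ a = k ∧ b = i := by decide
        rcases this i k l j j' hik hl.1 hl.2 hjl hj'l hj'j.symm with ⟨rfl, rfl⟩ | ⟨rfl, rfl⟩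
        · exact he
        · exact fun x hx => (he x hx).symm
      have hrow : ∀ b, b ≠ l → fr g m b j' = 0 := by
        intro b hbl
        by_contra hb
        refine hli fun x hx => ?_
        rw [hrel m hm l j hj x hx, hjj', ← hrel m hm b j' hb x hx]
        have : ∀ i k l a : Fin 3, i ≠ k → l ≠ i → l ≠ k → a ≠ l → a = i ∨ a = k := by decide
        rcases this i k l b hik hl.1 hl.2 hbl with rfl | rfl
        · rfl
        · exact (he x hx).symm
      have hu := Matrix.isUnit_iff_isUnit_det _ |>.1 (hcol m)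
      have hvec : fr g m *ᵥ (fr g m l j' • Pi.single j (1 : F) - fr g m l j • Pi.single j' (1 : F)) = 0 := by
        ext b
        simp only [Matrix.mulVec_sub, Matrix.mulVec_smul, Matrix.mulVec_single, MulOpposite.op_one, one_smul,
          Pi.sub_apply, Pi.smul_apply, Matrix.col_apply, smul_eq_mul, Pi.zero_apply]
        rcases eq_or_ne b l with rfl | hb
        · ring
        · rw [hsame j hj b hb, hrow b hb]; ring
      have h0 := (Matrix.mulVec_injective_iff_isUnit.2 (hcol m)) (hvec.trans (Matrix.mulVec_zero _).symm)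
      have := congrFun h0 j'
      simp [hj'j.symm, hj] at this
    set v := (g : Matrix (Fin 3) (Fin 3) F) *ᵥ Pi.single l 1 with hv
    have hvec : ∀ m ∈ M, (m : Matrix (Fin 3) (Fin 3) F) *ᵥ v = fr g m l l • v := by
      intro m hm
      have e : fr g m *ᵥ Pi.single l 1 = fr g m l l • Pi.single l (1 : F) := by
        ext b
        rcases eq_or_ne b l with rfl | hb
        · simp
        · simp [hfix m hm b hb, hb]
      have := congrArg ((g : Matrix (Fin 3) (Fin 3) F) *ᵥ ·) e
      simp only [fr, Matrix.mulVec_mulVec, Matrix.mulVec_smul, ← Matrix.mul_assoc, Units.mul_inv,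
        Matrix.one_mul] at this
      rw [hv, Matrix.mulVec_mulVec]
      exact this
    have hv0 : v ≠ 0 := by
      intro e
      have h := Matrix.mulVec_injective_iff_isUnit.2 g.isUnit
        ((hv.symm.trans e).trans (Matrix.mulVec_zero _).symm)
      simpa using congrFun h l
    rcases hirr (Submodule.span F {v}) (by
      rintro _ ⟨m, hm, rfl⟩
      rw [Submodule.map_span, Submodule.span_le, Set.image_singleton, Set.singleton_subset_iff,
        Matrix.toLin'_apply, hvec m hm]
      exact Submodule.smul_mem _ _ (Submodule.mem_span_singleton_self v)) with h | h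
    · exact hv0 (Submodule.span_singleton_eq_bot.1 h)
    · have := finrank_span_singleton (K := F) hv0
      rw [h, finrank_top, Module.finrank_fin_fun] at this
      omega
  intro m hm
  have hone : ∀ j, ∃ i, ∀ a, a ≠ i → fr g m a j = 0 := by
    intro j
    by_cases h : ∃ i, fr g m i j ≠ 0
    · obtain ⟨i, hi⟩ := h
      refine ⟨i, fun a ha => by_contra fun hne => hdist a i ha fun x hx => ?_⟩
      rw [hrel m hm a j hne x hx, hrel m hm i j hi x hx]
    · push Not at h
      exact ⟨0, fun a _ => h a⟩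
  choose f hf using hone
  have hne : ∀ j, fr g m (f j) j ≠ 0 := by
    intro j h
    have hu := Matrix.isUnit_iff_isUnit_det _ |>.1 (hcol m)
    rw [Matrix.det_eq_zero_of_column_eq_zero j fun a => ?_] at hu
    · exact not_isUnit_zero hu
    · rcases eq_or_ne a (f j) with rfl | ha
      · exact h
      · exact hf j a ha
  have hfi : Function.Injective f := by
    intro j j' e
    by_contra hjj
    have hvec : fr g m *ᵥ (fr g m (f j) j' • Pi.single j (1 : F) - fr g m (f j) j • Pi.single j' (1 : F)) = 0 := by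
      ext b
      simp only [Matrix.mulVec_sub, Matrix.mulVec_smul, Matrix.mulVec_single, MulOpposite.op_one, one_smul,
        Pi.sub_apply, Pi.smul_apply, Matrix.col_apply, smul_eq_mul, Pi.zero_apply]
      rcases eq_or_ne b (f j) with rfl | hb
      · ring
      · rw [hf j b hb, hf j' b (e ▸ hb)]; ring
    have h0 := (Matrix.mulVec_injective_iff_isUnit.2 (hcol m)) (hvec.trans (Matrix.mulVec_zero _).symm)
    have := congrFun h0 j'
    simp [Ne.symm hjj, hne j] at this
  refine ⟨Equiv.ofBijective f (Finite.injective_iff_bijective.1 hfi), fun j => fr g m (f j) j, fun j => ?_⟩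
  have e : fr g m *ᵥ Pi.single j 1 = fr g m (f j) j • Pi.single (f j) (1 : F) := by
    ext b
    rcases eq_or_ne b (f j) with rfl | hb
    · simp
    · simp [hf j b hb, hb]
  have := congrArg ((g : Matrix (Fin 3) (Fin 3) F) *ᵥ ·) e
  simp only [fr, Matrix.mulVec_mulVec, Matrix.mulVec_smul, ← Matrix.mul_assoc, Units.mul_inv, Matrix.one_mul] at this
  rw [Matrix.mulVec_mulVec]
  exact this

end CfsgLib.Dim3Max
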