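import Cfsg.Agent.Lib.Dim3Max.Defs
import Cfsg.Agent.Lib.FT.OddOrderTheorem
import Cfsg.Agent.Lib.Involutions.ZStar.Main

/-!
A subgroup of rank one in characteristic two is solvable.

An involution is isolated, so the subgroup is the product of its odd core and the centralizer of the
involution, which preserves a flag.
-/

set_option autoImplicit false

namespace CfsgLib.Dim3Max

open Cfsg
open scoped Matrix MatrixGroups commutatorElement

universe u

variable {F : Type u} [Field F] [Finite F]

theorem exists_flag_vec {W W' : Submodule F (Fin 3 → F)} (hle : W' ≤ W)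
    (h : Module.finrank F W ≤ Module.finrank F W' + 1) : ∃ e, W = W' ⊔ Submodule.span F {e} := by
  by_cases heq : W' = W
  · exact ⟨0, by rw [heq, Submodule.span_zero_singleton, sup_bot_eq]⟩
  obtain ⟨e, he, he'⟩ := SetLike.exists_of_lt (lt_of_le_of_ne hle heq)
  refine ⟨e, (Submodule.eq_of_le_of_finrank_le (sup_le hle ((Submodule.span_singleton_le_iff_mem _ _).2 he)) ?_).symm⟩
  have h1 : Module.finrank F W' < Module.finrank F ↥(W' ⊔ Submodule.span F {e}) := by
    refine Submodule.finrank_lt_finrank_of_lt (lt_of_le_of_ne le_sup_left fun h2 => he' ?_)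
    rw [h2]
    exact Submodule.mem_sup_right (Submodule.mem_span_singleton_self e)
  omega

/-- Two maps preserving a step of a flag commute modulo the smaller space. -/
theorem flag_step {W W' : Submodule F (Fin 3 → F)} (hle : W' ≤ W)
    (h : Module.finrank F W ≤ Module.finrank F W' + 1) (a b : (Fin 3 → F) →ₗ[F] (Fin 3 → F))
    (ha : ∀ v ∈ W, a v ∈ W) (hb : ∀ v ∈ W, b v ∈ W) (ha' : ∀ v ∈ W', a v ∈ W') (hb' : ∀ v ∈ W', b v ∈ W') :
    ∀ v ∈ W, a (b v) - b (a v) ∈ W' := by
  obtain ⟨e, he⟩ := exists_flag_vec hle h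
  have hdec : ∀ v ∈ W, ∃ w ∈ W', ∃ c : F, v = w + c • e := by
    intro v hv
    rw [he, Submodule.mem_sup] at hv
    obtain ⟨w, hw, y, hy, rfl⟩ := hv
    obtain ⟨c, rfl⟩ := Submodule.mem_span_singleton.1 hy
    exact ⟨w, hw, c, rfl⟩
  have heW : e ∈ W := he ▸ Submodule.mem_sup_right (Submodule.mem_span_singleton_self e)
  obtain ⟨wa, hwa, la, hae⟩ := hdec _ (ha e heW)
  obtain ⟨wb, hwb, lb, hbe⟩ := hdec _ (hb e heW)
  intro v hv
  obtain ⟨w, hw, c, rfl⟩ := hdec v hv
  have e1 : a (b (w + c • e)) - b (a (w + c • e)) =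
      a (b w) + c • a wb + (c * lb) • wa - (b (a w) + c • b wa + (c * la) • wb) := by
    simp only [map_add, map_smul, hae, hbe]
    module
  rw [e1]
  exact W'.sub_mem (W'.add_mem (W'.add_mem (ha' _ (hb' _ hw)) (W'.smul_mem _ (ha' _ hwb))) (W'.smul_mem _ hwa))
    (W'.add_mem (W'.add_mem (hb' _ (ha' _ hw)) (W'.smul_mem _ (hb' _ hwa))) (W'.smul_mem _ hwb))

/-- The centralizer of an involution in characteristic two is solvable. -/
theorem isSolvable_centralizer (h2 : (2 : F) = 0) {j : GL (Fin 3) F} (hj : j * j = 1) (hj1 : j ≠ 1)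
    (C : Subgroup (GL (Fin 3) F)) (hC : ∀ g ∈ C, g * j = j * g) : Group.IsSolvable C := by
  classical
  set N : (Fin 3 → F) →ₗ[F] (Fin 3 → F) :=
    Matrix.toLin' ((j : Matrix (Fin 3) (Fin 3) F) - 1) with hN
  have hjM : (j : Matrix (Fin 3) (Fin 3) F) * (j : Matrix (Fin 3) (Fin 3) F) = 1 := by
    rw [← Units.val_mul, hj, Units.val_one]
  have hN2 : ∀ v, N (N v) = 0 := by
    intro v
    have e : ((j : Matrix (Fin 3) (Fin 3) F) - 1) * ((j : Matrix (Fin 3) (Fin 3) F) - 1) =
        (2 : F) • (1 - (j : Matrix (Fin 3) (Fin 3) F)) := by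
      simp only [sub_mul, mul_sub, hjM, one_mul, mul_one, two_smul]
      abel
    rw [hN, Matrix.toLin'_apply, Matrix.toLin'_apply, Matrix.mulVec_mulVec, e, h2, zero_smul, Matrix.zero_mulVec]
  have hNne : N ≠ 0 := by
    intro e
    refine hj1 (Units.ext ?_)
    rw [hN, LinearEquiv.map_eq_zero_iff, sub_eq_zero] at e
    exact e
  set R := LinearMap.range N
  set K := LinearMap.ker N
  have hRK : R ≤ K := by
    rintro _ ⟨v, rfl⟩
    exact hN2 v
  have hd : Module.finrank F R + Module.finrank F K = 3 := by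
    rw [LinearMap.finrank_range_add_finrank_ker, Module.finrank_fin_fun]
  have hR0 : 0 < Module.finrank F R := by
    rw [Nat.pos_iff_ne_zero, ne_eq, Submodule.finrank_eq_zero, LinearMap.range_eq_bot]
    exact hNne
  have hle := Submodule.finrank_mono hRK
  -- what the centralizer preserves
  let L : GL (Fin 3) F → (Fin 3 → F) →ₗ[F] (Fin 3 → F) := fun g => Matrix.toLin' (g : Matrix (Fin 3) (Fin 3) F)
  have hL : ∀ g h v, L (g * h) v = L g (L h v) := fun g h v => by
    simp only [L, Units.val_mul, Matrix.toLin'_mul, LinearMap.comp_apply]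
  have hcomm : ∀ g ∈ C, ∀ v, N (L g v) = L g (N v) := by
    intro g hg v
    have e := congrArg (fun x : GL (Fin 3) F => (x : Matrix (Fin 3) (Fin 3) F)) (hC g hg)
    simp only [Units.val_mul] at e
    simp only [hN, L, Matrix.toLin'_apply, Matrix.mulVec_mulVec, sub_mul, mul_sub, e, one_mul, mul_one]
  have hpR : ∀ g ∈ C, ∀ v ∈ R, L g v ∈ R := by
    rintro g hg _ ⟨v, rfl⟩
    exact ⟨L g v, hcomm g hg v⟩
  have hpK : ∀ g ∈ C, ∀ v ∈ K, L g v ∈ K := fun g hg v hv => by
    rw [LinearMap.mem_ker, hcomm g hg, LinearMap.mem_ker.1 hv, map_zero]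
  -- the unipotent part
  let U : Subgroup C :=
    { carrier := {g | (∀ v ∈ R, L g.1 v = v) ∧ (∀ v ∈ K, L g.1 v - v ∈ R) ∧ ∀ v, L g.1 v - v ∈ K}
      one_mem' := by simp [L]
      mul_mem' := by
        rintro a b ⟨a1, a2, a3⟩ ⟨b1, b2, b3⟩
        refine ⟨fun v hv => ?_, fun v hv => ?_, fun v => ?_⟩
        · rw [Subgroup.coe_mul, hL, b1 v hv, a1 v hv]
        · rw [Subgroup.coe_mul, hL, ← sub_add_sub_cancel _ (L b.1 v) v]
          exact R.add_mem (a2 _ (hpK _ b.2 v hv)) (b2 v hv)
        · rw [Subgroup.coe_mul, hL, ← sub_add_sub_cancel _ (L b.1 v) v]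
          exact K.add_mem (a3 _) (b3 v)
      inv_mem' := by
        rintro a ⟨a1, a2, a3⟩
        have e : ∀ v, L a.1 (L (a⁻¹ : C).1 v) = v := fun v => by
          rw [← hL, ← Subgroup.coe_mul, mul_inv_cancel]
          simp [L]
        refine ⟨fun v hv => ?_, fun v hv => ?_, fun v => ?_⟩
        · have := a1 _ (hpR _ (a⁻¹).2 v hv)
          rw [e] at this
          exact this.symm
        · have := a2 _ (hpK _ (a⁻¹).2 v hv)
          rw [e] at this
          simpa using R.neg_mem this
        · have := a3 (L (a⁻¹ : C).1 v)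
          rw [e] at this
          simpa using K.neg_mem this }
  have hcommU : commutator C ≤ U := by
    rw [commutator_eq_closure, Subgroup.closure_le]
    rintro _ ⟨a, b, rfl⟩
    have e : ∀ v, L (⁅a, b⁆ : C).1 v - v =
        L a.1 (L b.1 (L ((b * a)⁻¹ : C).1 v)) - L b.1 (L a.1 (L ((b * a)⁻¹ : C).1 v)) := by
      intro v
      have e1 : ⁅a, b⁆ = a * (b * (b * a)⁻¹) := by rw [commutatorElement_def]; group
      conv_lhs => rw [e1, Subgroup.coe_mul, hL, Subgroup.coe_mul, hL]
      refine congrArg₂ (· - ·) rfl ?_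
      rw [← hL, ← hL, ← Subgroup.coe_mul, ← Subgroup.coe_mul, mul_inv_cancel]
      simp [L]
    have hq := ((b * a)⁻¹ : C).2
    have hb : Module.finrank F (⊥ : Submodule F (Fin 3 → F)) = 0 := finrank_bot F _
    have hz : ∀ g : C, ∀ v ∈ (⊥ : Submodule F (Fin 3 → F)), L g.1 v ∈ (⊥ : Submodule F (Fin 3 → F)) :=
      fun g v hv => by rw [(Submodule.mem_bot F).1 hv, map_zero]; exact zero_mem _
    refine ⟨fun v hv => sub_eq_zero.1 ?_, fun v hv => ?_, fun v => ?_⟩
    · rw [e, ← Submodule.mem_bot F]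
      exact flag_step bot_le (by omega) _ _ (hpR _ a.2) (hpR _ b.2) (hz a) (hz b) _ (hpR _ hq v hv)
    · rw [e]
      exact flag_step hRK (by omega) _ _ (hpK _ a.2) (hpK _ b.2) (hpR _ a.2) (hpR _ b.2) _ (hpK _ hq v hv)
    · rw [e]
      exact flag_step (W := ⊤) le_top (by rw [finrank_top, Module.finrank_fin_fun]; omega) _ _
        (fun _ _ => Submodule.mem_top) (fun _ _ => Submodule.mem_top) (hpK _ a.2) (hpK _ b.2) _ Submodule.mem_top
  have hUp : IsPGroup 2 U := by
    rintro ⟨g, g1, g2, g3⟩
    refine ⟨2, Subtype.ext (Subtype.ext (Units.ext (Matrix.toLin'.injective (LinearMap.ext fun v => ?_))))⟩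
    show L (g.1 ^ 4) v = L 1 v
    have hone : L 1 v = v := by simp [L]
    rw [show g.1 ^ 4 = (g.1 * g.1) * (g.1 * g.1) by simp only [pow_succ, pow_zero, one_mul, mul_assoc], hL, hone]
    have two : ∀ w : Fin 3 → F, w + w = 0 := fun w => by rw [← two_smul F, h2, zero_smul]
    have key : ∀ w, L (g.1 * g.1) w - w = L g.1 (L g.1 w - w) - (L g.1 w - w) := by
      intro w
      rw [hL, map_sub]
      linear_combination (norm := module) two (L g.1 w) - two w
    have hsq : ∀ w, L (g.1 * g.1) w - w ∈ R := fun w => by rw [key]; exact g2 _ (g3 w)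
    have h4 : L (g.1 * g.1) (L (g.1 * g.1) v) - v =
        L (g.1 * g.1) (L (g.1 * g.1) v - v) - (L (g.1 * g.1) v - v) := by
      rw [map_sub]
      linear_combination (norm := module) two (L (g.1 * g.1) v) - two v
    rw [← sub_eq_zero, h4, sub_eq_zero, hL, g1 _ (hsq v), g1 _ (hsq v)]
  haveI := hUp.isNilpotent
  have hs : Group.IsSolvable U := inferInstance
  have hn : U.Normal := ⟨fun u hu g => by
    have h := hcommU (Subgroup.commutator_mem_commutator (Subgroup.mem_top g) (Subgroup.mem_top u))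
    have := U.mul_mem h hu
    simpa [commutatorElement_def] using this⟩
  refine (Group.isSolvable_iff_subgroup_quotient U).2 ⟨hs, ?_⟩
  haveI : IsMulCommutative (C ⧸ U) := ⟨⟨fun x y => by
    induction x using QuotientGroup.induction_on with
    | _ a => induction y using QuotientGroup.induction_on with
      | _ b =>
        rw [← QuotientGroup.mk_mul, ← QuotientGroup.mk_mul, QuotientGroup.eq]
        have := hcommU (Subgroup.commutator_mem_commutator (Subgroup.mem_top b⁻¹) (Subgroup.mem_top a⁻¹))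
        simpa [commutatorElement_def, mul_assoc] using this⟩⟩
  exact Group.isSolvable_of_comm fun x y => mul_comm' x y

/-- BS: rank one in characteristic two. -/
theorem rankOneStmt : RankOneStmt F := by
  intro h2 M _ hM
  haveI : Finite M := inferInstance
  by_cases hz : ∃ z : M, orderOf z = 2
  · obtain ⟨z, hz⟩ := hz
    have hiso : Cfsg.IsIsolatedInvolution z := by
      refine ⟨hz, fun g hc => Subtype.ext ?_⟩
      refine (hM _ z.2 _ (g * z * g⁻¹ : M).2 ?_ ?_ (congrArg Subtype.val hc.eq)).symm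
      · rw [Subgroup.orderOf_coe, hz]
      · rw [Subgroup.orderOf_coe]
        exact ((MulAut.conj g).orderOf_eq z).trans hz
    set C := Subgroup.centralizer ({z} : Set M)
    have hCs : Group.IsSolvable (C.map M.subtype) := by
      refine isSolvable_centralizer h2 (j := z.1) ?_ ?_ _ ?_
      · have := pow_orderOf_eq_one z
        rw [hz, pow_two] at this
        exact congrArg Subtype.val this
      · intro e
        rw [show z = 1 from Subtype.ext e, orderOf_one] at hz
        omega
      · rintro _ ⟨g, hg, rfl⟩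
        exact congrArg Subtype.val (Subgroup.mem_centralizer_singleton_iff.1 hg)
    haveI : (oddCore M).Normal := Cfsg.pPrimeCore_normal 2 M
    refine (Group.isSolvable_iff_subgroup_quotient (oddCore M)).2
      ⟨CfsgLib.FT.isSolvable_of_odd (CfsgLib.Base.odd_card_oddCore M), ?_⟩
    let e := Subgroup.equivMapOfInjective C M.subtype M.subtype_injective
    haveI := hCs
    haveI : Group.IsSolvable C := solvable_of_solvable_injective (f := e.toMonoidHom) e.injective
    refine solvable_of_surjective (f := (QuotientGroup.mk' (oddCore M)).comp C.subtype) fun x => ?_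
    obtain ⟨g, rfl⟩ := QuotientGroup.mk'_surjective (oddCore M) x
    obtain ⟨a, ha, c, hc, rfl⟩ := CfsgLib.Involutions.ZStar.exists_mul_centralizer hiso g
    refine ⟨⟨c, hc⟩, ?_⟩
    rw [map_mul, show QuotientGroup.mk' (oddCore M) a = 1 from (QuotientGroup.eq_one_iff a).2 ha, one_mul]
    rfl
  · refine CfsgLib.FT.isSolvable_of_odd (Nat.odd_iff.2 ?_)
    by_contra hodd
    haveI : Fact (Nat.Prime 2) := ⟨Nat.prime_two⟩
    exact hz (exists_prime_orderOf_dvd_card' (G := M) 2 (by omega))

end CfsgLib.Dim3Max
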